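import Cfsg.Agent.Lib.PGroup.ElementaryBasic
import Mathlib.GroupTheory.OrderOfElement

/-!
# Automorphisms of odd order of a group of class two with squares in the centre

An abstract argument: if `Y` is elementary abelian of centralizer `Q` and the automorphisms considered satisfy
the non-degeneracy conditions of `Data`, then automorphisms of odd order map `Y` into `Q`.
-/

set_option autoImplicit false
set_option linter.unusedSectionVars false
set_option linter.style.haveILetI false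

open scoped commutatorElement

namespace CfsgLib.PushUp.OddAut

variable {B : Type*} [Group B]

/-- The subgroup generated by the squares in `Q`. -/
def sqG (Q : Subgroup B) : Subgroup B := Subgroup.closure {z | ∃ x ∈ Q, x ^ 2 = z}

theorem sq_mem_sqG {Q : Subgroup B} {x : B} (hx : x ∈ Q) : x ^ 2 ∈ sqG Q := Subgroup.subset_closure ⟨x, hx, rfl⟩

theorem commutator_mem_sqG {Q : Subgroup B} {a c : B} (ha : a ∈ Q) (hc : c ∈ Q) : ⁅a, c⁆ ∈ sqG Q := by
  have e : ⁅a, c⁆ = a ^ 2 * (a⁻¹ * c) ^ 2 * (c⁻¹) ^ 2 := by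
    rw [commutatorElement_def, pow_two, pow_two, pow_two]; group
  rw [e]
  exact mul_mem (mul_mem (sq_mem_sqG ha) (sq_mem_sqG (mul_mem (inv_mem ha) hc))) (sq_mem_sqG (inv_mem hc))

/-- What the argument uses. -/
structure Data (Y Q : Subgroup B) (Γ : Subgroup (MulAut B)) : Prop where
  sq : ∀ x : B, x ^ 2 ∈ Subgroup.center B
  center_le : Subgroup.center B ≤ Y
  invol : ∀ y ∈ Y, y * y = 1
  le : Y ≤ Q
  cent : Q = Subgroup.centralizer (Y : Set B)
  card : Nat.card B * Nat.card ↥(Subgroup.center B) = Nat.card ↥Q * Nat.card ↥Y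
  good : ∀ b ∈ Γ, ¬ Y.map b.toMonoidHom ≤ Q → ∀ y ∈ Y, (∀ z ∈ Y, b z * y = y * b z) → y ∈ Subgroup.center B
  nondeg : ∀ y ∈ Y, ∀ g : B, ⁅y, g⁆ ∈ sqG Q → ⁅y, g⁆ = 1
  norel : ∀ Rl : Subgroup (B × B), (∀ z ∈ Rl, z.2 ∈ Y ∧ ⁅z.1, z.2⁆ ∈ sqG Q) →
    (∀ g : B, ∃ z ∈ Rl, g⁻¹ * z.1 ∈ Q) → (∀ z ∈ Rl, z.1 ∈ Q → z.2 ∈ Subgroup.center B) →
      ∀ z ∈ Rl, z.2 ∈ Subgroup.center B

variable {Y Q : Subgroup B} {Γ : Subgroup (MulAut B)}

namespace Data

theorem comm_mem (h : Data Y Q Γ) (a c : B) : ⁅a, c⁆ ∈ Subgroup.center B := by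
  have e : ⁅a, c⁆ = a ^ 2 * (a⁻¹ * c) ^ 2 * (c⁻¹) ^ 2 := by
    rw [commutatorElement_def, pow_two, pow_two, pow_two]; group
  rw [e]
  exact mul_mem (mul_mem (h.sq _) (h.sq _)) (h.sq _)

theorem normal (h : Data Y Q Γ) {X : Subgroup B} (hX : Subgroup.center B ≤ X) : X.Normal := by
  refine ⟨fun x hx g => ?_⟩
  have e : g * x * g⁻¹ = ⁅g, x⁆ * x := by rw [commutatorElement_def]; group
  rw [e]
  exact mul_mem (hX (h.comm_mem g x)) hx

theorem center_le_map (h : Data Y Q Γ) (b : MulAut B) {X : Subgroup B} (hX : Subgroup.center B ≤ X) :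
    Subgroup.center B ≤ X.map b.toMonoidHom := fun z hz =>
  ⟨b.symm z, hX (Subgroup.mem_center_iff.2 fun g => b.injective (by
    rw [map_mul, map_mul, b.apply_symm_apply]; exact Subgroup.mem_center_iff.1 hz (b g))), b.apply_symm_apply z⟩

theorem map_center (b : MulAut B) {z : B} (hz : z ∈ Subgroup.center B) : b z ∈ Subgroup.center B :=
  Subgroup.mem_center_iff.2 fun g => by
    rw [← b.apply_symm_apply g, ← map_mul, ← map_mul, Subgroup.mem_center_iff.1 hz]

theorem mem_Q_iff (h : Data Y Q Γ) {x : B} : x ∈ Q ↔ ∀ y ∈ Y, y * x = x * y := by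
  rw [h.cent, Subgroup.mem_centralizer_iff]
  rfl

variable [Finite B]

theorem inv_not_le (h : Data Y Q Γ) {b : MulAut B} (hne : ¬ Y.map b.toMonoidHom ≤ Q) :
    ¬ Y.map (b⁻¹ : MulAut B).toMonoidHom ≤ Q := fun hle => hne (by
  rintro _ ⟨y, hy, rfl⟩
  refine h.mem_Q_iff.2 fun z hz => ?_
  show z * b y = b y * z
  have h1 := h.mem_Q_iff.1 (hle ⟨z, hz, rfl⟩) y hy
  have h2 := congrArg b h1
  have e : b ((b⁻¹ : MulAut B) z) = z := b.apply_symm_apply z
  change b (y * (b⁻¹ : MulAut B) z) = b ((b⁻¹ : MulAut B) z * y) at h2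
  rw [map_mul, map_mul, e] at h2
  exact h2.symm)

theorem inf_Q (h : Data Y Q Γ) {b : MulAut B} (hb : b ∈ Γ) (hne : ¬ Y.map b.toMonoidHom ≤ Q) :
    ∀ x ∈ Y.map b.toMonoidHom, x ∈ Q → x ∈ Subgroup.center B := by
  rintro _ ⟨y, hy, rfl⟩ hx
  refine map_center b (h.good b⁻¹ (inv_mem hb) (h.inv_not_le hne) y hy fun z hz => b.injective ?_)
  rw [map_mul, map_mul, show b ((b⁻¹ : MulAut B) z) = z from b.apply_symm_apply z]
  exact h.mem_Q_iff.1 hx z hz

theorem sup_Q (h : Data Y Q Γ) {b : MulAut B} (hb : b ∈ Γ) (hne : ¬ Y.map b.toMonoidHom ≤ Q) :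
    Y.map b.toMonoidHom ⊔ Q = ⊤ := by
  haveI := h.normal (h.center_le.trans h.le)
  refine Subgroup.eq_top_of_card_eq _ (le_antisymm (Subgroup.card_le_card_group _) ?_)
  have h1 := CfsgLib.EABasic.card_sup_mul_card_inf_of_le_normalizer (H := Y.map b.toMonoidHom) (N := Q)
    (le_top.trans (Subgroup.normalizer_eq_top_iff.2 inferInstance).ge)
  have h2 : Nat.card ↥(Y.map b.toMonoidHom ⊓ Q) ≤ Nat.card ↥(Subgroup.center B) :=
    Subgroup.card_le_of_le fun x hx => h.inf_Q hb hne x hx.1 hx.2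
  rw [Subgroup.card_map_of_injective (f := b.toMonoidHom) b.injective] at h1
  refine Nat.le_of_mul_le_mul_right (?_ : _ * Nat.card ↥(Subgroup.center B) ≤ _) Nat.card_pos
  rw [h.card, mul_comm (Nat.card ↥Q), ← h1]
  exact Nat.mul_le_mul_left _ h2

theorem sup_D (h : Data Y Q Γ) {b : MulAut B} (hb : b ∈ Γ) (hne : ¬ Y.map b.toMonoidHom ≤ Q) :
    Y ⊔ (Q ⊓ Q.map b.toMonoidHom) = Q := by
  have hQ := h.center_le.trans h.le
  haveI := h.normal hQ
  refine Subgroup.eq_of_le_of_card_ge (sup_le h.le inf_le_left) ?_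
  set D := Q ⊓ Q.map b.toMonoidHom
  haveI := h.normal (le_inf hQ (h.center_le_map b hQ) : Subgroup.center B ≤ D)
  have h1 := CfsgLib.EABasic.card_sup_mul_card_inf_of_le_normalizer (H := Y) (N := D)
    (le_top.trans (Subgroup.normalizer_eq_top_iff.2 inferInstance).ge)
  have h2 := CfsgLib.EABasic.card_sup_mul_card_inf_of_le_normalizer (H := Q.map b.toMonoidHom) (N := Q)
    (le_top.trans (Subgroup.normalizer_eq_top_iff.2 inferInstance).ge)
  rw [Subgroup.card_map_of_injective (f := b.toMonoidHom) b.injective, inf_comm] at h2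
  have h3 : Nat.card ↥(Y ⊓ D) ≤ Nat.card ↥(Subgroup.center B) :=
    Subgroup.card_le_of_le fun y hy => h.good b hb hne y hy.1 fun z hz => by
      obtain ⟨q, hq, rfl⟩ := hy.2.2
      show b z * b q = b q * b z
      rw [← map_mul, ← map_mul, h.mem_Q_iff.1 hq z hz]
  have h4 : Nat.card ↥(Q.map b.toMonoidHom ⊔ Q) ≤ Nat.card B := Subgroup.card_le_card_group _
  refine Nat.le_of_mul_le_mul_right (?_ : _ * (Nat.card B * Nat.card ↥(Subgroup.center B)) ≤ _ * (Nat.card B * Nat.card ↥(Subgroup.center B))) (Nat.mul_pos Nat.card_pos Nat.card_pos)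
  calc Nat.card ↥Q * (Nat.card B * Nat.card ↥(Subgroup.center B))
      = Nat.card ↥Y * (Nat.card ↥Q * Nat.card ↥Q) := by rw [h.card]; ring
    _ = Nat.card ↥Y * (Nat.card ↥(Q.map b.toMonoidHom ⊔ Q) * Nat.card ↥D) := by rw [h2]
    _ ≤ Nat.card ↥Y * (Nat.card B * Nat.card ↥D) := Nat.mul_le_mul_left _ (Nat.mul_le_mul_right _ h4)
    _ = Nat.card B * (Nat.card ↥(Y ⊔ D) * Nat.card ↥(Y ⊓ D)) := by rw [h1]; ring
    _ ≤ Nat.card B * (Nat.card ↥(Y ⊔ D) * Nat.card ↥(Subgroup.center B)) :=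
        Nat.mul_le_mul_left _ (Nat.mul_le_mul_left _ h3)
    _ = _ := by ring

/-- The square of `b` maps `Y` into `Q` as well. -/
theorem sq_map_le (h : Data Y Q Γ) {b : MulAut B} (hb : b ∈ Γ) (hne : ¬ Y.map b.toMonoidHom ≤ Q) :
    Y.map (b * b : MulAut B).toMonoidHom ≤ Q := by
  by_contra hne2
  have hQ := h.center_le.trans h.le
  set Qb := Q.map b.toMonoidHom with hQb
  haveI := h.normal (h.center_le_map b hQ : Subgroup.center B ≤ Qb)
  haveI := h.normal hQ
  have hsup := h.sup_Q hb hne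
  have hdec : ∀ c ∈ Qb, ∃ r ∈ Y.map b.toMonoidHom, ∃ d ∈ Q, c = r * d ∧ r * d = d * r := by
    intro c hc
    obtain ⟨r, hr, d, hd, rfl⟩ := Subgroup.mem_sup_of_normal_right.1 (hsup ▸ Subgroup.mem_top c :
      c ∈ Y.map b.toMonoidHom ⊔ Q)
    refine ⟨r, hr, d, hd, rfl, ?_⟩
    have hdb : d ∈ Qb := by
      have := mul_mem (inv_mem (Subgroup.map_mono h.le hr : r ∈ Qb)) hc
      rwa [inv_mul_cancel_left] at this
    obtain ⟨y, hy, rfl⟩ := hr
    obtain ⟨q, hq, rfl⟩ := hdb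
    show b y * b q = b q * b y
    rw [← map_mul, ← map_mul, h.mem_Q_iff.1 hq y hy]
  let Rl : Subgroup (B × B) :=
    { carrier := {z | z.1 ∈ Y.map (b * b : MulAut B).toMonoidHom ∧ z.2 ∈ Y ∧ z.2⁻¹ * z.1 ∈ Qb}
      one_mem' := ⟨one_mem _, one_mem _, by simp⟩
      mul_mem' := fun {z w} hz hw => ⟨mul_mem hz.1 hw.1, mul_mem hz.2.1 hw.2.1, by
        have e : (z * w).2⁻¹ * (z * w).1 = w.2⁻¹ * (z.2⁻¹ * z.1) * w.2 * (w.2⁻¹ * w.1) := by
          simp only [Prod.fst_mul, Prod.snd_mul]; group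
        rw [e]
        refine mul_mem ?_ hw.2.2
        have := (inferInstance : Qb.Normal).conj_mem _ hz.2.2 w.2⁻¹
        rwa [inv_inv] at this⟩
      inv_mem' := fun {z} hz => ⟨inv_mem hz.1, inv_mem hz.2.1, by
        have e : (z⁻¹).2⁻¹ * (z⁻¹).1 = z.2 * (z.2⁻¹ * z.1)⁻¹ * z.2⁻¹ := by
          simp only [Prod.fst_inv, Prod.snd_inv]; group
        rw [e]
        exact (inferInstance : Qb.Normal).conj_mem _ (inv_mem hz.2.2) z.2⟩ }
  -- every element of the group is congruent to some `v ∈ Y` modulo `Qb`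
  have hBY : ∀ g : B, ∃ v ∈ Y, v⁻¹ * g ∈ Qb := by
    intro g
    obtain ⟨r, hr, s, hs, rfl⟩ := Subgroup.mem_sup_of_normal_right.1 (hsup ▸ Subgroup.mem_top g :
      g ∈ Y.map b.toMonoidHom ⊔ Q)
    rw [← h.sup_D hb hne] at hs
    haveI := h.normal (le_inf hQ (h.center_le_map b hQ) : Subgroup.center B ≤ Q ⊓ Qb)
    obtain ⟨v, hv, d, hd, rfl⟩ := Subgroup.mem_sup_of_normal_right.1 hs
    refine ⟨v, hv, ?_⟩
    have e : v⁻¹ * (r * (v * d)) = (v⁻¹ * r * v) * d := by group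
    rw [e]
    refine mul_mem ?_ hd.2
    have := (inferInstance : Qb.Normal).conj_mem _ (Subgroup.map_mono h.le hr : r ∈ Qb) v⁻¹
    rwa [inv_inv] at this
  have key := h.norel Rl (fun z hz => ?_) (fun g => ?_) fun z hz hzQ => ?_
  · refine hne fun x hx => ?_
    obtain ⟨y, hy, rfl⟩ := hx
    obtain ⟨v, hv, hc⟩ := hBY (b (b y))
    have hv' := key (b (b y), v) ⟨⟨y, hy, rfl⟩, hv, hc⟩
    have h1 : b (b y) ∈ Qb := by
      have h0 := mul_mem (h.center_le_map b hQ hv' : v ∈ Qb) hc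
      rwa [mul_inv_cancel_left] at h0
    obtain ⟨q, hq, he⟩ := h1
    show b y ∈ Q
    rwa [b.injective (show b q = b (b y) from he)] at hq
  · obtain ⟨hx, hv, hc⟩ := hz
    refine ⟨hv, ?_⟩
    set v := z.2
    set c := v⁻¹ * z.1
    have hx1 : z.1 = v * c := by simp [c]
    obtain ⟨r, hr, d, hd, hcd, hrd⟩ := hdec c hc
    obtain ⟨y', hy', hr'⟩ := hr
    obtain ⟨y, hy, hy2⟩ := hx
    have hxx : z.1 * z.1 = 1 := by
      rw [← hy2]
      show (b * b) y * (b * b) y = 1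
      rw [← map_mul, h.invol y hy, map_one]
    have hrr : r * r = 1 := by
      rw [← hr']
      show b y' * b y' = 1
      rw [← map_mul, h.invol y' hy', map_one]
    have hcc : c * c = d * d := by
      rw [hcd]
      calc r * d * (r * d) = r * (d * r) * d := by group
        _ = r * (r * d) * d := by rw [hrd]
        _ = d * d := by rw [← mul_assoc r r d, hrr, one_mul]
    have hvv := h.invol v hv
    have e : ⁅z.1, v⁆ = ⁅c, v⁆ := by
      rw [hx1]
      have hcen := Subgroup.mem_center_iff.1 (h.comm_mem c v) v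
      calc ⁅v * c, v⁆ = v * ⁅c, v⁆ * v⁻¹ := by simp only [commutatorElement_def]; group
        _ = ⁅c, v⁆ := by rw [hcen]; group
    have e2 : ⁅c, v⁆ = c * c := by
      have hvi : v⁻¹ = v := inv_eq_of_mul_eq_one_right hvv
      have h0 : v * c * (v * c) = 1 := by rw [← hx1]; exact hxx
      have h1 : v * c * v = c⁻¹ := eq_inv_of_mul_eq_one_left (by rw [← h0]; group)
      rw [commutatorElement_def, hvi]
      calc c * v * c⁻¹ * v = c * v * (v * c * v) * v := by rw [h1]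
        _ = c * (v * v) * c * (v * v) := by group
        _ = c * c := by rw [hvv, mul_one, mul_one]
    rw [e, e2, hcc, ← pow_two]
    exact sq_mem_sqG hd
  · have hb2 : b * b ∈ Γ := mul_mem hb hb
    obtain ⟨x, hx, s, hs, rfl⟩ := Subgroup.mem_sup_of_normal_right.1 (h.sup_Q hb2 hne2 ▸ Subgroup.mem_top g :
      g ∈ Y.map (b * b : MulAut B).toMonoidHom ⊔ Q)
    obtain ⟨v, hv, hc⟩ := hBY x
    refine ⟨(x, v), ⟨hx, hv, hc⟩, ?_⟩
    show (x * s)⁻¹ * x ∈ Q
    rw [mul_inv_rev, mul_assoc, inv_mul_cancel, mul_one]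
    exact inv_mem hs
  · have hx := h.inf_Q (mul_mem hb hb) hne2 _ hz.1 hzQ
    have hvQ : z.2 ∈ Qb := by
      have h1 := mul_mem (h.center_le_map b hQ hx : z.1 ∈ Qb) (inv_mem hz.2.2)
      rwa [mul_inv_rev, mul_inv_cancel_left, inv_inv] at h1
    refine h.good b hb hne z.2 hz.2.1 fun y hy => ?_
    obtain ⟨q, hq, he⟩ := hvQ
    rw [← he]
    show b y * b q = b q * b y
    rw [← map_mul, ← map_mul, h.mem_Q_iff.1 hq y hy]

/-- An automorphism moving `Y` out of `Q` has a square normalizing `Y`. -/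
theorem sq_map_eq (h : Data Y Q Γ) {b : MulAut B} (hb : b ∈ Γ) (hne : ¬ Y.map b.toMonoidHom ≤ Q) :
    Y.map (b * b : MulAut B).toMonoidHom = Y := by
  have hle := h.sq_map_le hb hne
  have hQ := h.center_le.trans h.le
  haveI := h.normal hQ
  set Yc := Y.map (b * b : MulAut B).toMonoidHom
  set D := Q ⊓ Q.map b.toMonoidHom
  haveI := h.normal (le_inf hQ (h.center_le_map b hQ) : Subgroup.center B ≤ D)
  have hcardY : Nat.card ↥Yc = Nat.card ↥Y :=
    Subgroup.card_map_of_injective (f := (b * b : MulAut B).toMonoidHom) (b * b : MulAut B).injective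
  -- `b² Y` and `D` generate `Q`
  have hsupD : Yc ⊔ D = Q := by
    refine Subgroup.eq_of_le_of_card_ge (sup_le hle inf_le_left) ?_
    have h1 := CfsgLib.EABasic.card_sup_mul_card_inf_of_le_normalizer (H := Yc) (N := D)
      (le_top.trans (Subgroup.normalizer_eq_top_iff.2 inferInstance).ge)
    have h2 := CfsgLib.EABasic.card_sup_mul_card_inf_of_le_normalizer (H := Y) (N := D)
      (le_top.trans (Subgroup.normalizer_eq_top_iff.2 inferInstance).ge)
    rw [h.sup_D hb hne] at h2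
    have h3 : Nat.card ↥(Yc ⊓ D) ≤ Nat.card ↥(Subgroup.center B) := Subgroup.card_le_of_le fun x hx => by
      obtain ⟨⟨y, hy, rfl⟩, -, q, hq, he⟩ := hx
      show (b * b) y ∈ Subgroup.center B
      have hqy : q = b y := b.injective he
      exact map_center b (h.inf_Q hb hne _ ⟨y, hy, rfl⟩ (hqy ▸ hq))
    have h4 : Nat.card ↥(Subgroup.center B) ≤ Nat.card ↥(Y ⊓ D) :=
      Subgroup.card_le_of_le (le_inf h.center_le (le_inf hQ (h.center_le_map b hQ)))
    refine Nat.le_of_mul_le_mul_right (?_ : _ * Nat.card ↥(Yc ⊓ D) ≤ _ * Nat.card ↥(Yc ⊓ D)) Nat.card_pos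
    rw [h1, hcardY, ← h2]
    exact Nat.mul_le_mul_left _ (h3.trans h4)
  -- so `b² Q = Q`
  have hQQ : Q.map (b * b : MulAut B).toMonoidHom ≤ Q := by
    rintro _ ⟨q, hq, rfl⟩
    obtain ⟨r, hr, s, hs, he⟩ := Subgroup.mem_sup_of_normal_right.1 (h.sup_Q hb hne ▸ Subgroup.mem_top ((b * b) q) :
      (b * b) q ∈ Y.map b.toMonoidHom ⊔ Q)
    show (b * b) q ∈ Q
    rw [← he]
    refine mul_mem (h.mem_Q_iff.2 fun y hy => ?_) hs
    obtain ⟨x, hx, d, hd, rfl⟩ := Subgroup.mem_sup_of_normal_right.1 (hsupD.ge (h.le hy))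
    have hxg : ⁅x, r * s⁆ = 1 := by
      obtain ⟨y', hy', rfl⟩ := hx
      rw [he, commutatorElement_eq_one_iff_mul_comm]
      show (b * b) y' * (b * b) q = (b * b) q * (b * b) y'
      rw [← map_mul, ← map_mul, h.mem_Q_iff.1 hq y' hy']
    have hdr : d * r = r * d := by
      obtain ⟨y', hy', rfl⟩ := hr
      obtain ⟨q', hq', rfl⟩ := hd.2
      show b q' * b y' = b y' * b q'
      rw [← map_mul, ← map_mul, h.mem_Q_iff.1 hq' y' hy']
    -- `⁅x d, r⁆ = ⁅x, r⁆ = ⁅x, s⁆⁻¹`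
    have e1 : ⁅x * d, r⁆ = ⁅x, r⁆ := by
      simp only [commutatorElement_def, mul_inv_rev]
      calc x * d * r * (d⁻¹ * x⁻¹) * r⁻¹ = x * (d * r) * d⁻¹ * x⁻¹ * r⁻¹ := by group
        _ = x * (r * d) * d⁻¹ * x⁻¹ * r⁻¹ := by rw [hdr]
        _ = x * r * x⁻¹ * r⁻¹ := by group
    have e2 : ⁅x, r * s⁆ = ⁅x, r⁆ * ⁅x, s⁆ := by
      have hcen := Subgroup.mem_center_iff.1 (h.comm_mem x s) r
      calc ⁅x, r * s⁆ = ⁅x, r⁆ * (r * ⁅x, s⁆ * r⁻¹) := by simp only [commutatorElement_def]; group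
        _ = ⁅x, r⁆ * ⁅x, s⁆ := by rw [hcen]; group
    rw [e2] at hxg
    have h5 : ⁅x * d, r⁆ ∈ sqG Q := by
      rw [e1, eq_inv_of_mul_eq_one_left hxg]
      exact inv_mem (commutator_mem_sqG (hle hx) hs)
    exact commutatorElement_eq_one_iff_mul_comm.1 (h.nondeg _ hy r h5)
  have hQeq : Q.map (b * b : MulAut B).toMonoidHom = Q := Subgroup.eq_of_le_of_card_ge hQQ
    (Subgroup.card_map_of_injective (f := (b * b : MulAut B).toMonoidHom) (b * b : MulAut B).injective).ge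
  -- hence `b² Y` is central in `Q`
  refine Subgroup.eq_of_le_of_card_ge ?_ hcardY.ge
  intro x hx
  obtain ⟨y, hy, d, hd, he⟩ := Subgroup.mem_sup_of_normal_right.1 ((h.sup_D hb hne).ge (hle hx))
  have hdc : d ∈ Subgroup.center B := by
    refine Subgroup.mem_center_iff.2 fun g => ?_
    obtain ⟨r, hr, s, hs, rfl⟩ := Subgroup.mem_sup_of_normal_right.1 (h.sup_Q hb hne ▸ Subgroup.mem_top g :
      g ∈ Y.map b.toMonoidHom ⊔ Q)
    have hds : s * d = d * s := by
      have h1 : s * x = x * s := by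
        obtain ⟨q, hq, rfl⟩ := hQeq.ge hs
        obtain ⟨y', hy', rfl⟩ := hx
        show (b * b) q * (b * b) y' = (b * b) y' * (b * b) q
        rw [← map_mul, ← map_mul, h.mem_Q_iff.1 hq y' hy']
      have h2 : y * s = s * y := h.mem_Q_iff.1 hs y hy
      rw [← he] at h1
      have h3 : y * (s * d) = y * (d * s) := by
        calc y * (s * d) = (y * s) * d := (mul_assoc _ _ _).symm
          _ = (s * y) * d := by rw [h2]
          _ = s * (y * d) := mul_assoc _ _ _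
          _ = y * d * s := h1
          _ = y * (d * s) := mul_assoc _ _ _
      exact mul_left_cancel h3
    have hdr : r * d = d * r := by
      obtain ⟨y', hy', rfl⟩ := hr
      obtain ⟨q', hq', rfl⟩ := hd.2
      show b y' * b q' = b q' * b y'
      rw [← map_mul, ← map_mul, h.mem_Q_iff.1 hq' y' hy']
    calc r * s * d = r * (s * d) := mul_assoc _ _ _
      _ = r * (d * s) := by rw [hds]
      _ = (r * d) * s := (mul_assoc _ _ _).symm
      _ = (d * r) * s := by rw [hdr]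
      _ = d * (r * s) := mul_assoc _ _ _
  rw [← he]
  exact mul_mem hy (h.center_le hdc)

/-- Automorphisms of odd order map `Y` into `Q`. -/
theorem map_le (h : Data Y Q Γ) {b : MulAut B} (hb : b ∈ Γ) (hodd : Odd (orderOf b)) :
    Y.map b.toMonoidHom ≤ Q := by
  by_contra hne
  have h2 := h.sq_map_eq hb hne
  have hk : ∀ k : ℕ, Y.map ((b * b) ^ k : MulAut B).toMonoidHom = Y := by
    intro k
    induction k with
    | zero => exact Subgroup.map_id Y
    | succ k ih =>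
      rw [pow_succ']
      show Y.map ((b * b : MulAut B).toMonoidHom.comp ((b * b) ^ k : MulAut B).toMonoidHom) = Y
      rw [← Subgroup.map_map, ih, h2]
  obtain ⟨k, hk'⟩ := hodd
  refine hne (le_trans (le_of_eq ?_) h.le)
  have e : b * (b * b) ^ k = 1 := by
    rw [← pow_two, ← pow_mul, ← pow_succ', ← hk', pow_orderOf_eq_one]
  conv_lhs => rw [← hk k, Subgroup.map_map]
  show Y.map (b * (b * b) ^ k : MulAut B).toMonoidHom = Y
  rw [e]
  exact Subgroup.map_id Y

end Data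

end CfsgLib.PushUp.OddAut
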