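import Cfsg.Agent.Lib.CFun.MinParab.Baumann.Line
import Cfsg.Agent.Lib.CFun.MinParab.Baumann.Build
import Cfsg.Agent.Lib.PushUp.OddAut.Core
import Cfsg.Agent.Lib.Fusion.StableClosureBasic

/-!
# Pushing up an odd group of automorphisms of a Sylow `2`-subgroup

If a Sylow `2`-subgroup lies in one maximal subgroup and the group has characteristic `2`, a group of
automorphisms of odd order of the Sylow subgroup leaves invariant a non-trivial normal subgroup of the group.
-/

set_option autoImplicit false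
set_option linter.unusedSectionVars false
set_option linter.style.haveILetI false

open CfsgLib.Char.NatSL (fixS mem_fixS fixS_mono)
open CfsgLib.Fusion (conjBy mem_conjBy conj_mem_conjBy conjBy_le_iff conjBy_eq_iff IsMaxEA)
open CfsgLib.CFun.MinParab
open CfsgLib.CFun.MinParab.Baumann
open scoped commutatorElement IsMulCommutative

namespace CfsgLib.PushUp.OddAut

universe u

section res

variable {G : Type u} [Group G] [Finite G] {p : ℕ}

theorem baumann_map {X : Type*} [Group X] [Finite X] (f : X →* G) (hf : Function.Injective f) :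
    (Cfsg.baumannSubgroupOf p (⊤ : Subgroup X)).map f = Cfsg.baumannSubgroupOf p f.range := by
  rw [Cfsg.baumannSubgroupOf, Cfsg.baumannSubgroupOf, MonoidHom.range_eq_map, Cfsg.centerThompsonOf,
    Cfsg.centerThompsonOf,
    ← CfsgLib.Fusion.map_thompsonSubgroupOf f (fun x _ hx => hf (hx.trans (map_one f).symm)),
    ← CfsgLib.Fusion.inf_centralizer_map_eq f hf, ← CfsgLib.Fusion.omega_map_eq f hf]
  set Z := Cfsg.omegaOne p (Cfsg.thompsonSubgroupOf p (⊤ : Subgroup X) ⊓
    Subgroup.centralizer (Cfsg.thompsonSubgroupOf p (⊤ : Subgroup X) : Set X))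
  refine le_antisymm ?_ ?_
  · rintro _ ⟨x, ⟨hx, hxC⟩, rfl⟩
    refine ⟨Subgroup.mem_map_of_mem f hx, Subgroup.mem_centralizer_iff.2 ?_⟩
    rintro _ ⟨z, hz, rfl⟩
    rw [← map_mul, ← map_mul, Subgroup.mem_centralizer_iff.1 hxC z hz]
  · rintro y ⟨⟨x, hx, rfl⟩, hy⟩
    refine Subgroup.mem_map_of_mem f ⟨hx, Subgroup.mem_centralizer_iff.2 fun z hz => hf ?_⟩
    rw [map_mul, map_mul]
    exact Subgroup.mem_centralizer_iff.1 hy _ (Subgroup.mem_map_of_mem f hz)

variable (T : Subgroup G)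

theorem baumann_invariant (φ : MulAut ↥T) {x : ↥T} (hx : (x : G) ∈ Cfsg.baumannSubgroupOf p T) :
    (φ x : G) ∈ Cfsg.baumannSubgroupOf p T := by
  have h1 := baumann_map (p := p) T.subtype T.subtype_injective
  have h2 := baumann_map (p := p) (T.subtype.comp φ.toMonoidHom) (T.subtype_injective.comp φ.injective)
  rw [Subgroup.range_subtype] at h1
  rw [MonoidHom.range_comp, MonoidHom.range_eq_top.2 φ.surjective, ← MonoidHom.range_eq_map,
    Subgroup.range_subtype] at h2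
  rw [← h1] at hx
  obtain ⟨y, hy, he⟩ := hx
  rw [← h2]
  exact ⟨y, hy, congrArg (fun z : ↥T => ((φ z : ↥T) : G)) (T.subtype_injective he)⟩

/-- The restriction of automorphisms to the Baumann subgroup. -/
noncomputable def res (p : ℕ) : MulAut ↥T →* MulAut ↥(Cfsg.baumannSubgroupOf p T) :=
  MonoidHom.mk' (fun φ =>
    { toFun := fun x => ⟨(φ ⟨x, x.2.1⟩ : G), baumann_invariant T φ x.2⟩
      invFun := fun x => ⟨(φ.symm ⟨x, x.2.1⟩ : G), baumann_invariant T φ.symm x.2⟩
      left_inv := fun x => Subtype.ext (by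
        show (φ.symm ⟨(φ ⟨(x : G), x.2.1⟩ : G), _⟩ : G) = x
        rw [Subtype.coe_eta, φ.symm_apply_apply])
      right_inv := fun x => Subtype.ext (by
        show (φ ⟨(φ.symm ⟨(x : G), x.2.1⟩ : G), _⟩ : G) = x
        rw [Subtype.coe_eta, φ.apply_symm_apply])
      map_mul' := fun x y => Subtype.ext (by
        show _ = (((φ ⟨(x : G), x.2.1⟩ : ↥T) * φ ⟨(y : G), y.2.1⟩ : ↥T) : G)
        rw [← map_mul]
        rfl) })
    fun φ ψ => MulEquiv.ext fun x => Subtype.ext rfl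

theorem res_apply (φ : MulAut ↥T) (x : ↥(Cfsg.baumannSubgroupOf p T)) :
    ((res T p φ x : ↥(Cfsg.baumannSubgroupOf p T)) : G) = (φ ⟨x, x.2.1⟩ : G) := rfl

end res

variable {G : Type u} [Group G] [Finite G] {H : Type*} [Group H] [Finite H] {U : Type*} [AddCommGroup U]
  [Finite U] [DistribMulAction H U] {q : ℕ} {T : Sylow 2 G} {M : Subgroup G}
  {m : Glue.Mdl (vO 2 G) ⊤ H U} {S : Sylow 2 H} {N : Subgroup H}

/-- A subgroup of `Q₀` generated by squares is fixed by every opposite block. -/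
theorem zc_of_mem (cf : Conf 2 q T M m S N)
    (hsq : ∀ x : ↥(Cfsg.baumannSubgroupOf 2 (T : Subgroup G)), x ^ 2 ∈ Subgroup.center _) {u : U}
    (hu : m.val u ∈ (sqG ((qB 2 (T : Subgroup G)).subgroupOf (Cfsg.baumannSubgroupOf 2 (T : Subgroup G)))).map
      (Cfsg.baumannSubgroupOf 2 (T : Subgroup G)).subtype) :
    Zc U 2 q (S : Subgroup H) N u := by
  set B := Cfsg.baumannSubgroupOf 2 (T : Subgroup G)
  set Q := qB 2 (T : Subgroup G)
  haveI := cf.qB_normal
  set P := Subgroup.closure {z : G | ∃ x ∈ Q, x ^ 2 = z}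
  have hP : (sqG (Q.subgroupOf B)).map B.subtype ≤ P := by
    rw [sqG, MonoidHom.map_closure]
    refine Subgroup.closure_mono ?_
    rintro _ ⟨_, ⟨x, hx, rfl⟩, rfl⟩
    exact ⟨x, hx, rfl⟩
  have hPn : P.Normal := by
    refine ⟨fun z hz g => ?_⟩
    have h1 : P ≤ P.comap (MulAut.conj g).toMonoidHom := (Subgroup.closure_le _).2 (by
      rintro _ ⟨x, hx, rfl⟩
      exact Subgroup.subset_closure ⟨g * x * g⁻¹, (inferInstance : Q.Normal).conj_mem x hx g, conj_pow⟩)
    exact h1 hz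
  have hPB : P ≤ Subgroup.centralizer (B : Set G) := (Subgroup.closure_le _).2 (by
    rintro _ ⟨x, hx, rfl⟩
    refine Subgroup.mem_centralizer_iff.2 fun b hb => ?_
    exact congrArg Subtype.val (Subgroup.mem_center_iff.1 (hsq ⟨x, hx.1⟩) ⟨b, hb⟩))
  haveI := hPn
  intro A L hA hL
  haveI : ((Subgroup.centralizer (P : Set G)).map (toH m)).Normal :=
    Subgroup.Normal.map inferInstance _ (toH_surj m)
  have hAK : A ≤ (Subgroup.centralizer (P : Set G)).map (toH m) :=
    (le_rsup hA).trans (cf.map_baumann.ge.trans (Subgroup.map_mono (Subgroup.le_centralizer_iff.1 hPB)))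
  have hLK : L ≤ (Subgroup.centralizer (P : Set G)).map (toH m) := by
    obtain ⟨x, hx, hxN⟩ := SetLike.not_le_iff_exists.1 hL.notM
    rw [← hL.gen x hx hxN]
    refine sup_le hAK ?_
    rintro _ ⟨a, ha, rfl⟩
    exact Subgroup.Normal.conj_mem inferInstance a (hAK ha) x
  intro l hl
  obtain ⟨g, hg, rfl⟩ := hLK hl
  exact (toH_fix_iff m g u).2 (Subgroup.mem_centralizer_iff.1 hg _ (hP hu)).symm

/-- The hypotheses of the automorphism argument. -/
theorem data (cf : Conf 2 q T M m S N)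
    (hex : CfsgLib.PushAmalgam.Exceptional 2 ↥(Cfsg.baumannSubgroupOf 2 (T : Subgroup G))) :
    Data ((yB 2 (T : Subgroup G)).subgroupOf (Cfsg.baumannSubgroupOf 2 (T : Subgroup G)))
      ((qB 2 (T : Subgroup G)).subgroupOf (Cfsg.baumannSubgroupOf 2 (T : Subgroup G)))
      (res (T : Subgroup G) 2).range := by
  classical
  haveI hVn := Glue.Setting.omega_normal (G := G) (p := 2)
  haveI hYn := cf.yB_normal
  set B := Cfsg.baumannSubgroupOf 2 (T : Subgroup G) with hB
  set Y := yB 2 (T : Subgroup G)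
  set W := wJ 2 (T : Subgroup G)
  set Q := qB 2 (T : Subgroup G)
  have hsq : ∀ x : ↥B, x ^ 2 ∈ Subgroup.center ↥B := fun x =>
    hex.frattini_two rfl (CfsgLib.Coprime.pow_mem_frattini (T.2.to_le baumann_le) x)
  have hQB : Q ≤ B := inf_le_left
  have hYB : Y ≤ B := cf.yB_le_qB.trans hQB
  have hWB : W ≤ B := (le_sup_right : W ≤ Y).trans hYB
  -- the centre
  have hcenW : ∀ z : ↥B, z ∈ Subgroup.center ↥B ↔ (z : G) ∈ W := by
    intro z
    constructor
    · intro hz
      have hpow : (z : G) ^ 2 = 1 := congrArg Subtype.val (hex.center_elementary.2 z hz)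
      have hc : ∀ b ∈ B, b * (z : G) = z * b := fun b hb =>
        congrArg Subtype.val (Subgroup.mem_center_iff.1 hz ⟨b, hb⟩)
      obtain ⟨A, hA⟩ := CfsgLib.Fusion.exists_isMaxEA 2 (T : Subgroup G)
      have hAB : A ≤ B := (CfsgLib.Fusion.le_thompsonSubgroupOf hA).trans
        (CfsgLib.BaumannNormal.thompson_le_baumann _)
      have hzA : (z : G) ∈ A := le_of_commutes hA (Subgroup.zpowers_le.2 z.2.1)
        (CfsgLib.EABasic.isElementaryAbelian_zpowers hpow)
        (Subgroup.zpowers_le.2 (Subgroup.mem_centralizer_iff.2 fun a ha => hc a (hAB ha)))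
        (Subgroup.mem_zpowers _)
      exact Subgroup.subset_closure ⟨⟨CfsgLib.Fusion.le_thompsonSubgroupOf hA hzA,
        Subgroup.mem_centralizer_iff.2 fun j hj => hc j (CfsgLib.BaumannNormal.thompson_le_baumann _ hj)⟩, hpow⟩
    · intro hz
      refine Subgroup.mem_center_iff.2 fun b => Subtype.ext ?_
      exact (Subgroup.mem_centralizer_iff.1 (baumann_le_centralizer_wJ b.2) _ hz).symm
  have hcard : Nat.card ↥(Subgroup.center ↥B) = Nat.card ↥W := by
    rw [show Subgroup.center ↥B = W.subgroupOf B from Subgroup.ext hcenW]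
    exact Nat.card_congr (Subgroup.subgroupOfEquivOfLe hWB).toEquiv
  have hVW : ∀ y ∈ Y, ∃ u : U, ∃ w ∈ W, y = m.val u * w := by
    intro y hy
    obtain ⟨v, hv, w, hw, rfl⟩ := Subgroup.mem_sup_of_normal_left.1 hy
    obtain ⟨u, rfl⟩ := m.exists_val v hv
    exact ⟨u, w, hw, rfl⟩
  have hfixW : ∀ u : U, u ∈ fixS U (rsup U 2 q (S : Subgroup H)) → m.val u ∈ W := fun u hu =>
    cf.sub_fix_le_wJ (m.val_mem_sub.2 hu)
  have hR : ∀ g ∈ B, toH m g ∈ rsup U 2 q (S : Subgroup H) := fun g hg =>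
    cf.map_baumann.le (Subgroup.mem_map_of_mem _ hg)
  -- commutators with `Y`
  have hcomm : ∀ (g : ↥B) (u : U) (w : G), w ∈ W →
      ⁅(g : G), m.val u * w⁆ = m.val (toH m (g : G) • u - u) := by
    intro g u w hw
    have hgw : w * (g : G)⁻¹ = (g : G)⁻¹ * w :=
      Subgroup.mem_centralizer_iff.1 (baumann_le_centralizer_wJ (inv_mem g.2)) w hw
    rw [m.val_sub, val_toH, commutatorElement_def]
    calc (g : G) * (m.val u * w) * (g : G)⁻¹ * (m.val u * w)⁻¹
        = g * m.val u * (w * (g : G)⁻¹) * (w⁻¹ * (m.val u)⁻¹) := by group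
      _ = g * m.val u * ((g : G)⁻¹ * w) * (w⁻¹ * (m.val u)⁻¹) := by rw [hgw]
      _ = g * m.val u * (g : G)⁻¹ * (m.val u)⁻¹ := by group
  have hzc : ∀ (g : ↥B) (y : ↥B), (y : G) ∈ Y → ⁅g, y⁆ ∈ sqG (Q.subgroupOf B) →
      ∃ u : U, ∃ w ∈ W, (y : G) = m.val u * w ∧ Zc U 2 q (S : Subgroup H) N (toH m (g : G) • u - u) := by
    intro g y hy hgy
    obtain ⟨u, w, hw, he⟩ := hVW _ hy
    refine ⟨u, w, hw, he, zc_of_mem cf hsq ?_⟩
    rw [← hcomm g u w hw, ← he]
    exact ⟨_, hgy, map_commutatorElement B.subtype g y⟩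
  refine ⟨hsq, fun z hz => (le_sup_right : W ≤ Y) ((hcenW z).1 hz), fun y hy => ?_, fun x hx => cf.yB_le_qB hx,
    ?_, ?_, ?_, fun y hy g hg => ?_, fun Rl hRl hsurj hker => ?_⟩
  · refine Subtype.ext ?_
    show (y : G) * y = 1
    rw [← pow_two]
    exact cf.yB_ea.2 _ hy
  · ext x
    rw [Subgroup.mem_subgroupOf, show Q = _ from cf.qB_eq, Subgroup.mem_inf, Subgroup.mem_centralizer_iff,
      Subgroup.mem_centralizer_iff]
    refine ⟨fun h y hy => Subtype.ext (h.2 _ hy), fun h => ⟨baumann_le x.2, fun y hy => ?_⟩⟩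
    exact congrArg Subtype.val (h (⟨y, hYB hy⟩ : ↥B) hy)
  · rw [hcard, Nat.card_congr (Subgroup.subgroupOfEquivOfLe hQB).toEquiv,
      Nat.card_congr (Subgroup.subgroupOfEquivOfLe hYB).toEquiv, cf.card_baumann, cf.card_yB]
    ring
  · rintro _ ⟨φ, rfl⟩ hne y hy hcy
    set X := ((Y.subgroupOf B).map (res (T : Subgroup G) 2 φ).toMonoidHom).map B.subtype
    have hXB : X ≤ B := Subgroup.map_subtype_le _
    have hYT : ∀ z ∈ Y, z ∈ (T : Subgroup G) := fun z hz => (hYB hz).1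
    have hmove : ∀ t ∈ (T : Subgroup G), ∀ z ∈ X, t * z * t⁻¹ ∈ X := by
      rintro t ht _ ⟨_, ⟨z, hz, rfl⟩, rfl⟩
      set t' := φ.symm ⟨t, ht⟩
      have hmem : (t' : G) * z * (t' : G)⁻¹ ∈ Y := hYn.conj_mem _ hz _
      refine ⟨res (T : Subgroup G) 2 φ ⟨_, hYB hmem⟩, ⟨_, hmem, rfl⟩, ?_⟩
      show (φ ⟨(t' : G) * z * (t' : G)⁻¹, _⟩ : G) = t * (φ ⟨(z : G), _⟩ : G) * t⁻¹
      rw [show (⟨(t' : G) * z * (t' : G)⁻¹, hYT _ hmem⟩ : ↥(T : Subgroup G)) =
        t' * ⟨(z : G), z.2.1⟩ * t'⁻¹ from Subtype.ext rfl, map_mul, map_mul, map_inv, φ.apply_symm_apply]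
      rfl
    have hinv : (S : Subgroup H) ≤ Subgroup.normalizer ((X.map (toH m) : Subgroup H) : Set H) := by
      rw [cf.sylow]
      rintro _ ⟨t, ht, rfl⟩
      refine Subgroup.mem_normalizer_iff.2 fun z => ⟨?_, ?_⟩
      · rintro ⟨x, hx, rfl⟩
        exact ⟨t * x * t⁻¹, hmove t ht x hx, by rw [map_mul, map_mul, map_inv]⟩
      · rintro ⟨x, hx, he⟩
        refine ⟨t⁻¹ * x * t, by simpa using hmove t⁻¹ (inv_mem ht) x hx, ?_⟩
        rw [map_mul, map_mul, map_inv, he]
        group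
    have hXne : X.map (toH m) ≠ ⊥ := fun h => hne (by
      intro x hx
      refine cf.baumann_inf_centralizer.le ⟨x.2, (toH_eq_one m).1 ?_⟩
      exact (Subgroup.eq_bot_iff_forall _).1 h _ (Subgroup.mem_map_of_mem _ ⟨x, hx, rfl⟩))
    obtain ⟨u, w, hw, he'⟩ := hVW _ hy
    have he : (y : G) = m.val u * w := he'
    refine (hcenW y).2 ?_
    rw [he]
    refine mul_mem (hfixW u ?_) hw
    refine cf.cfg.fixS_le_of_invariant ((Subgroup.map_mono hXB).trans cf.map_baumann.le) hXne hinv ?_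
    refine (mem_fixS_map_iff m).2 (Subgroup.mem_centralizer_iff.2 ?_)
    rintro _ ⟨_, ⟨z, hz, rfl⟩, rfl⟩
    have h1 := congrArg Subtype.val (hcy z hz)
    simp only [Subgroup.coe_mul] at h1
    rw [he] at h1
    have hzw : w * ((res (T : Subgroup G) 2 φ z : ↥B) : G) = (res (T : Subgroup G) 2 φ z : ↥B) * w :=
      Subgroup.mem_centralizer_iff.1 (baumann_le_centralizer_wJ (res (T : Subgroup G) 2 φ z).2) w hw
    refine mul_right_cancel (b := w) ?_
    show ((res (T : Subgroup G) 2 φ z : ↥B) : G) * m.val u * w = m.val u * (res (T : Subgroup G) 2 φ z : ↥B) * w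
    rw [mul_assoc, mul_assoc, ← hzw, h1, mul_assoc]
  · have hgy : ⁅g, y⁆ ∈ sqG (Q.subgroupOf B) := by
      rw [← commutatorElement_inv y g]; exact inv_mem hg
    obtain ⟨u, w, hw, he, hz⟩ := hzc g y hy hgy
    have h1 := cf.cfg.fix_of_zc (hR g g.2) hz
    have h2 : ⁅(g : G), (y : G)⁆ = 1 := by rw [he, hcomm g u w hw, h1, sub_self, m.val_zero]
    rw [← commutatorElement_inv, inv_eq_one]
    exact Subtype.ext ((map_commutatorElement B.subtype g y).trans h2)
  · let K : Subgroup (↥B × ↥B) := Rl ⊓ (Subgroup.center ↥B).comap (MonoidHom.snd ↥B ↥B)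
    let π : ↥B × ↥B →* H := (toH m).comp (B.subtype.comp (MonoidHom.fst ↥B ↥B))
    have hdiag : ∀ z ∈ Rl, ∃ u : U, ∃ w ∈ W, (z.2 : G) = m.val u * w ∧
        Zc U 2 q (S : Subgroup H) N (π z • u - u) := fun z hz => hzc z.1 z.2 (hRl z hz).1 (hRl z hz).2
    have hker' : ∀ z ∈ Rl, π z = 1 → z.2 ∈ Subgroup.center ↥B := fun z hz h1 =>
      hker z hz (cf.baumann_inf_centralizer.le ⟨z.1.2, (toH_eq_one m).1 h1⟩)
    have hlift : ∀ r ∈ rsup U 2 q (S : Subgroup H), ∃ z ∈ Rl, π z = r := by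
      intro r hr
      obtain ⟨g, hg, rfl⟩ := cf.map_baumann.ge hr
      obtain ⟨z, hz, hzQ⟩ := hsurj ⟨g, hg⟩
      refine ⟨z, hz, ?_⟩
      have h1 := (toH_eq_one m).2 ((cf.baumann_inf_centralizer.ge hzQ).2)
      change toH m (g⁻¹ * (z.1 : G)) = 1 at h1
      rw [map_mul, map_inv, inv_mul_eq_one] at h1
      exact h1.symm
    have hroot : ∀ A ∈ rts U 2 q (S : Subgroup H), A ≤ K.map π := by
      intro A hA a ha
      obtain ⟨z, hz, hza⟩ := hlift a (le_rsup hA ha)
      refine ⟨z, ⟨hz, ?_⟩, hza⟩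
      show z.2 ∈ Subgroup.center ↥B
      by_cases ha1 : a = 1
      · exact hker' z hz (hza.trans ha1)
      obtain ⟨u, w, hw, he, hzc'⟩ := hdiag z hz
      rw [hza] at hzc'
      refine (hcenW _).2 (he ▸ mul_mem (hfixW u (mem_fixS_sSup fun A' hA' b hb => ?_)) hw)
      have hau := cf.cfg.fix_of_zc (le_rsup hA ha) hzc'
      by_cases hAA : A' = A
      · exact cf.cfg.sys.sep hA.1 ha ha1 hau b (hAA ▸ hb)
      obtain ⟨z', hz', hzb⟩ := hlift b (le_rsup hA' hb)
      obtain ⟨u', w', hw', he', hzc''⟩ := hdiag z' hz'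
      rw [hzb] at hzc''
      have hbu := cf.cfg.fix_of_zc (le_rsup hA' hb) hzc''
      obtain ⟨u₂, w₂, hw₂, he₂, hz₂⟩ := hdiag (z * z') (mul_mem hz hz')
      rw [map_mul, hza, hzb] at hz₂
      have hwv : w * m.val u' = m.val u' * w :=
        (Subgroup.mem_centralizer_iff.1 (cf.vO_le_centralizer (cf.wJ_le_pCore hw)) _ (m.val_mem u')).symm
      have heq : m.val (u + u') * (w * w') = m.val u₂ * w₂ := by
        rw [← he₂, m.val_add]
        show m.val u * m.val u' * (w * w') = (z.2 : G) * (z'.2 : G)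
        rw [he, he']
        calc m.val u * m.val u' * (w * w') = m.val u * (m.val u' * w) * w' := by group
          _ = m.val u * (w * m.val u') * w' := by rw [hwv]
          _ = _ := by group
      -- `u₂` and `u + u'` differ by fixed points
      have hd : u₂ - (u + u') ∈ fixS U (rsup U 2 q (S : Subgroup H)) := by
        have h3 : m.val (u₂ - (u + u')) = w * w' * w₂⁻¹ := by
          rw [m.val_sub]
          have h4 : m.val u₂ = m.val (u + u') * (w * w') * w₂⁻¹ := by rw [heq, mul_inv_cancel_right]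
          have hc' : ∀ x ∈ W, x * (m.val (u + u'))⁻¹ = (m.val (u + u'))⁻¹ * x := fun x hx =>
            (Subgroup.mem_centralizer_iff.1 (cf.vO_le_centralizer (cf.wJ_le_pCore hx)) _
              (Subgroup.inv_mem _ (m.val_mem _))).symm
          rw [h4, mul_assoc _ (w₂⁻¹), hc' _ (inv_mem hw₂), mul_assoc (m.val (u + u')), ← mul_assoc (w * w'),
            hc' _ (mul_mem hw hw'), ← mul_assoc, ← mul_assoc, mul_inv_cancel, one_mul]
        have h5 : m.val (u₂ - (u + u')) ∈ vO 2 G ⊓ W :=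
          ⟨m.val_mem _, by rw [h3]; exact Subgroup.mul_mem _ (Subgroup.mul_mem _ hw hw') (Subgroup.inv_mem _ hw₂)⟩
        exact m.val_mem_sub.1 (cf.vO_inf_wJ.le h5)
      have hab : a * b ∈ rsup U 2 q (S : Subgroup H) := mul_mem (le_rsup hA ha) (le_rsup hA' hb)
      have hz' : Zc U 2 q (S : Subgroup H) N ((b • u - u) + (a • u' - u')) := by
        have e : (a * b) • u₂ - u₂ = (b • u - u) + (a • u' - u') := by
          have h1 : (a * b) • (u₂ - (u + u')) = u₂ - (u + u') := hd _ hab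
          have hc2 : (a * b) • u = b • u := by rw [cf.cfg.com hA hA' a ha b hb, mul_smul, hau]
          have hc3 : (a * b) • u' = a • u' := by rw [mul_smul, hbu]
          rw [smul_sub, smul_add, hc2, hc3] at h1
          linear_combination (norm := abel) h1
        rwa [e] at hz₂
      exact cf.cfg.fix_pair hA hA' (Ne.symm hAA) ha hb hz'
    intro z hz
    obtain ⟨k, hk, hkz⟩ := (sSup_le hroot : rsup U 2 q (S : Subgroup H) ≤ K.map π) (hR z.1 z.1.2)
    have h1 := hker' (k⁻¹ * z) (mul_mem (inv_mem hk.1) hz) (by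
      rw [map_mul, map_inv, hkz]; exact inv_mul_cancel _)
    have hk2 : k.2 ∈ Subgroup.center ↥B := hk.2
    have h2 := mul_mem hk2 h1
    rwa [Prod.snd_mul, Prod.snd_inv, mul_inv_cancel_left] at h2

/-- The conclusion in the configuration. -/
theorem exists_invariant (cf : Conf 2 q T M m S N) (A : Subgroup (MulAut ↥(T : Subgroup G)))
    (hA : Odd (Nat.card A)) : ∃ W : Subgroup G, W ≠ ⊥ ∧ W.Normal ∧ W ≤ (T : Subgroup G) ∧
      ∀ a ∈ A, ∀ x : ↥(T : Subgroup G), (x : G) ∈ W → ((a x : ↥(T : Subgroup G)) : G) ∈ W := by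
  classical
  haveI hYn := cf.yB_normal
  haveI hQn := cf.qB_normal
  set B := Cfsg.baumannSubgroupOf 2 (T : Subgroup G)
  rcases cf.char_or_exceptional with ⟨C, hC, hCc, hCn⟩ | ⟨hex, -⟩
  · refine ⟨C.map B.subtype, fun h => hC ((Subgroup.map_eq_bot_iff_of_injective _ B.subtype_injective).1 h), hCn,
      (Subgroup.map_subtype_le _).trans baumann_le, fun a _ x hx => ?_⟩
    obtain ⟨b, hb, he⟩ := hx
    refine ⟨res (T : Subgroup G) 2 a b, Subgroup.characteristic_iff_map_le.1 hCc _ ⟨b, hb, rfl⟩, ?_⟩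
    exact congrArg (fun z : ↥(T : Subgroup G) => ((a z : ↥(T : Subgroup G)) : G))
      (Subtype.ext he : (⟨(b : G), b.2.1⟩ : ↥(T : Subgroup G)) = x)
  set Y := yB 2 (T : Subgroup G)
  set Q := qB 2 (T : Subgroup G)
  have hd := data cf hex
  have hYT : Y ≤ (T : Subgroup G) := cf.yB_le_qB.trans (inf_le_left.trans baumann_le)
  have hmapQ : ∀ a ∈ A, ∀ x : ↥(T : Subgroup G), (x : G) ∈ Y → ((a x : ↥(T : Subgroup G)) : G) ∈ Q := by
    intro a ha x hx
    have hodd : Odd (orderOf (res (T : Subgroup G) 2 a)) := Odd.of_dvd_nat hA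
      ((orderOf_map_dvd _ a).trans (Subgroup.orderOf_dvd_natCard A ha))
    exact hd.map_le ⟨a, rfl⟩ hodd ⟨⟨(x : G), (cf.yB_le_qB hx).1⟩, hx, rfl⟩
  let YT : Subgroup ↥(T : Subgroup G) := Y.subgroupOf (T : Subgroup G)
  let W' : Subgroup ↥(T : Subgroup G) := ⨆ a : A, YT.map (a : MulAut ↥(T : Subgroup G)).toMonoidHom
  have hYW : Y ≤ W'.map (T : Subgroup G).subtype := fun y hy => ⟨⟨y, hYT hy⟩,
    le_iSup (fun a : A => YT.map (a : MulAut ↥(T : Subgroup G)).toMonoidHom) 1 ⟨⟨y, hYT hy⟩, hy, rfl⟩, rfl⟩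
  have hWQ : W'.map (T : Subgroup G).subtype ≤ Q := by
    rw [Subgroup.map_iSup]
    refine iSup_le fun a => ?_
    rintro _ ⟨_, ⟨x, hx, rfl⟩, rfl⟩
    exact hmapQ a a.2 x hx
  have hWn : W'.Normal := Subgroup.sSup_normal _ (by
    rintro _ ⟨a, rfl⟩
    exact Subgroup.Normal.map (inferInstanceAs YT.Normal) _ (a : MulAut ↥(T : Subgroup G)).surjective)
  refine ⟨W'.map (T : Subgroup G).subtype, fun h => ?_, ?_, Subgroup.map_subtype_le _, fun a ha x hx => ?_⟩
  · have h1 : Nat.card ↥Y = 1 := Subgroup.card_eq_one.2 (le_bot_iff.1 (hYW.trans h.le))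
    rw [cf.card_yB] at h1
    exact cf.cfg.rsup_ne_bot (Subgroup.card_eq_one.1 (Nat.eq_one_of_mul_eq_one_right h1))
  · haveI : (Q.map (QuotientGroup.mk' Y)).Normal :=
      Subgroup.Normal.map inferInstance _ (QuotientGroup.mk'_surjective Y)
    set N₁ := (Subgroup.centralizer (Q.map (QuotientGroup.mk' Y) : Set (G ⧸ Y))).comap (QuotientGroup.mk' Y)
    have hmove : ∀ g : G, g ∈ N₁ → ∀ x ∈ Q, g * x * g⁻¹ * x⁻¹ ∈ Y := fun g hg x hx => by
      rw [← QuotientGroup.eq_one_iff]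
      show (g : G ⧸ Y) * x * (g : G ⧸ Y)⁻¹ * (x : G ⧸ Y)⁻¹ = 1
      have h1 : (x : G ⧸ Y) * g = g * x :=
        Subgroup.mem_centralizer_iff.1 hg _ (Subgroup.mem_map_of_mem (QuotientGroup.mk' Y) hx)
      rw [← h1, mul_inv_cancel_right, mul_inv_cancel]
    have hBN : B ≤ N₁ := fun b hb => Subgroup.mem_centralizer_iff.2 (by
      rintro _ ⟨x, hx, rfl⟩
      show (x : G ⧸ Y) * (b : G ⧸ Y) = (b : G ⧸ Y) * x
      rw [← QuotientGroup.mk_mul, ← QuotientGroup.mk_mul, QuotientGroup.eq]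
      have h1 : ⁅(⟨b, hb⟩ : ↥B)⁻¹, (⟨x, hx.1⟩ : ↥B)⁻¹⁆ ∈ Subgroup.center ↥B :=
        hd.comm_mem _ _
      have h2 : ⁅b⁻¹, x⁻¹⁆ ∈ Y := hd.center_le h1
      have e : (x * b)⁻¹ * (b * x) = ⁅b⁻¹, x⁻¹⁆ := by rw [commutatorElement_def]; group
      rw [e]
      exact h2)
    have htop : N₁ ⊔ (T : Subgroup G) = ⊤ := by
      by_contra h
      have h1 := CfsgLib.LS.inf_le_pCore_of_normal_le T cf.setting.only N₁
        (le_sup_left.trans (cf.setting.only.2.2 _ le_sup_right h))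
      refine cf.cfg.rsup_ne_bot ((Subgroup.eq_bot_iff_forall _).2 fun r hr => ?_)
      obtain ⟨b, hb, rfl⟩ := cf.map_baumann.ge hr
      exact (toH_eq_one m).2 (cf.vO_le_centralizer (h1 ⟨hb.1, hBN hb⟩))
    refine Subgroup.normalizer_eq_top_iff.1 (top_le_iff.1 (htop ▸ sup_le (fun g hg => ?_) ?_))
    · have key : ∀ g ∈ N₁, ∀ x ∈ W'.map (T : Subgroup G).subtype,
          g * x * g⁻¹ ∈ W'.map (T : Subgroup G).subtype := fun g hg x hx => by
        have h1 := mul_mem (hYW (hmove g hg x (hWQ hx))) hx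
        rwa [inv_mul_cancel_right] at h1
      refine Subgroup.mem_normalizer_iff.2 fun x => ⟨key g hg x, fun hx => ?_⟩
      simpa [mul_assoc] using key g⁻¹ (inv_mem hg) _ hx
    · intro t ht
      have key : ∀ t ∈ (T : Subgroup G), ∀ x ∈ W'.map (T : Subgroup G).subtype,
          t * x * t⁻¹ ∈ W'.map (T : Subgroup G).subtype := by
        rintro t ht _ ⟨x, hx, rfl⟩
        exact ⟨⟨t, ht⟩ * x * ⟨t, ht⟩⁻¹, hWn.conj_mem x hx _, rfl⟩
      refine Subgroup.mem_normalizer_iff.2 fun x => ⟨key t ht x, fun hx => ?_⟩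
      simpa [mul_assoc] using key t⁻¹ (inv_mem ht) _ hx
  · obtain ⟨y, hy, he⟩ := hx
    obtain rfl : y = x := Subtype.ext he
    refine ⟨a y, ?_, rfl⟩
    have h1 : W'.map (a : MulAut ↥(T : Subgroup G)).toMonoidHom ≤ W' := by
      rw [Subgroup.map_iSup]
      refine iSup_le fun a' => ?_
      rw [Subgroup.map_map]
      exact le_iSup_of_le (⟨a, ha⟩ * a' : A) le_rfl
    exact h1 ⟨y, hy, rfl⟩

open CfsgLib.CFun.MinParab.Glue in
/-- The theorem. -/
theorem exists_normal_invariant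
    (hirr : ∀ S : Sylow 2 G, ∃! M : Subgroup G, IsCoatom M ∧ (S : Subgroup G) ≤ M)
    (hchar : Subgroup.centralizer (Cfsg.pCore 2 G : Set G) ≤ Cfsg.pCore 2 G) (T : Sylow 2 G)
    (A : Subgroup (MulAut ↥(T : Subgroup G))) (hA : Odd (Nat.card A)) :
    ∃ W : Subgroup G, W ≠ ⊥ ∧ W.Normal ∧ W ≤ (T : Subgroup G) ∧
      ∀ a ∈ A, ∀ x : ↥(T : Subgroup G), (x : G) ∈ W → ((a x : ↥(T : Subgroup G)) : G) ∈ W := by
  classical
  obtain ⟨M, hM, hu⟩ := hirr T
  have honly : CfsgLib.LS.OnlyMax (T : Subgroup G) M := CfsgLib.LS.onlyMax_of_unique hM ⟨M, hM, hu⟩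
  have hTne : (T : Subgroup G) ≠ ⊥ := by
    intro h
    have hQ : Cfsg.pCore 2 G = ⊥ := le_bot_iff.1 ((CfsgLib.PGroup.pCore_le_sylow T).trans h.le)
    have h1 : (⊤ : Subgroup G) ≤ ⊥ := fun x hx => hQ.le (hchar (Subgroup.mem_centralizer_iff.2 fun y hy => by
      rw [Subgroup.mem_bot.1 (hQ.le hy), one_mul, mul_one]))
    exact hM.1.1 (top_le_iff.1 ((h1.trans bot_le).trans le_rfl))
  by_cases hn : (T : Subgroup G).Normal
  · exact ⟨(T : Subgroup G), hTne, hn, le_rfl, fun a _ x _ => (a x).2⟩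
  by_cases hss : Cfsg.cStarStarOf 2 (T : Subgroup G) = ⊤
  · have hTC : (T : Subgroup G) ≤ Subgroup.centralizer (Cfsg.omegaOneCenter 2 (T : Subgroup G) : Set G) :=
      Subgroup.le_centralizer_iff.2 ((CfsgLib.LS.omegaOne_le_self _).trans inf_le_right)
    have hTJ : (T : Subgroup G) ≤ Subgroup.normalizer (Cfsg.thompsonSubgroupOf 2 (T : Subgroup G) : Set G) :=
      Subgroup.le_normalizer.trans (CfsgLib.Fusion.normalizer_le_normalizer_thompsonSubgroupOf _)
    by_cases hC : Subgroup.centralizer (Cfsg.omegaOneCenter 2 (T : Subgroup G) : Set G) = ⊤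
    · haveI : Nontrivial ↥(T : Subgroup G) := (Subgroup.nontrivial_iff_ne_bot _).2 hTne
      have hne : Cfsg.omegaOneCenter 2 (T : Subgroup G) ≠ ⊥ := by
        intro h
        haveI := T.2.center_nontrivial
        obtain ⟨n, hn0, hcard⟩ := (IsPGroup.to_subgroup T.2 (Subgroup.center ↥(T : Subgroup G))).nontrivial_iff_card.1 ‹_›
        obtain ⟨k, hk⟩ := exists_prime_orderOf_dvd_card' (G := ↥(Subgroup.center ↥(T : Subgroup G))) 2
          (hcard ▸ dvd_pow_self 2 hn0.ne')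
        have hk2 : k ^ 2 = 1 := orderOf_dvd_iff_pow_eq_one.1 (dvd_of_eq hk)
        have hmem : ((k : ↥(T : Subgroup G)) : G) ∈ Cfsg.omegaOneCenter 2 (T : Subgroup G) := by
          refine Subgroup.subset_closure ⟨⟨(k : ↥(T : Subgroup G)).2,
            Subgroup.mem_centralizer_iff.2 fun g hg =>
              congrArg Subtype.val (Subgroup.mem_center_iff.1 k.2 ⟨g, hg⟩)⟩, ?_⟩
          rw [← Subgroup.coe_pow, ← Subgroup.coe_pow, hk2]
          rfl
        rw [h, Subgroup.mem_bot] at hmem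
        refine Nat.prime_two.ne_one (hk ▸ orderOf_eq_one_iff.2 (Subtype.ext (Subtype.ext hmem)))
      refine ⟨Cfsg.omegaOneCenter 2 (T : Subgroup G), hne, ?_, (CfsgLib.LS.omegaOne_le_self _).trans inf_le_left,
        fun a _ x hx => ?_⟩
      · exact CfsgLib.PushUp.normal_of_le_center fun z hz => Subgroup.mem_center_iff.2 fun g =>
          (Subgroup.mem_centralizer_iff.1 (hC ▸ Subgroup.mem_top g : g ∈ _) z hz).symm
      · have hmap : ∀ f : ↥(T : Subgroup G) →* G, Function.Injective f → f.range = (T : Subgroup G) →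
            (Cfsg.omegaOne 2 (⊤ ⊓ Subgroup.centralizer ((⊤ : Subgroup ↥(T : Subgroup G)) : Set ↥(T : Subgroup G)))).map f
              = Cfsg.omegaOneCenter 2 (T : Subgroup G) := fun f hf hr => by
          rw [CfsgLib.Fusion.omega_map_eq f hf, CfsgLib.Fusion.inf_centralizer_map_eq f hf,
            ← MonoidHom.range_eq_map, hr, Cfsg.omegaOneCenter]
        have h' := hmap (T : Subgroup G).subtype (T : Subgroup G).subtype_injective (Subgroup.range_subtype _)
        have h := hmap ((T : Subgroup G).subtype.comp a.toMonoidHom)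
          ((T : Subgroup G).subtype_injective.comp a.injective)
          (by rw [MonoidHom.range_comp, MonoidHom.range_eq_top.2 a.surjective, ← MonoidHom.range_eq_map,
            Subgroup.range_subtype])
        rw [← h'] at hx
        obtain ⟨y, hy, he⟩ := hx
        obtain rfl : y = x := Subtype.ext he
        exact h.le ⟨y, hy, rfl⟩
    · refine ⟨Cfsg.thompsonSubgroupOf 2 (T : Subgroup G), CfsgLib.Fusion.thompsonSubgroupOf_ne_bot T.2 hTne, ?_,
        CfsgLib.Fusion.thompsonSubgroupOf_le _, fun a _ x hx => ?_⟩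
      · refine Subgroup.normalizer_eq_top_iff.1 ?_
        by_contra hN
        exact hM.1.1 (top_le_iff.1 (hss ▸ sup_le (honly.2.2 _ hTC hC) (honly.2.2 _ hTJ hN)))
      · have h := CfsgLib.Fusion.map_thompsonSubgroupOf (p := 2) ((T : Subgroup G).subtype.comp a.toMonoidHom)
          (P := ⊤) fun y _ hy => a.injective (((T : Subgroup G).subtype_injective (hy.trans (map_one _).symm)).trans (map_one a).symm)
        have h' := CfsgLib.Fusion.map_thompsonSubgroupOf (p := 2) (T : Subgroup G).subtype (P := ⊤)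
          fun y _ hy => (T : Subgroup G).subtype_injective (hy.trans (map_one _).symm)
        rw [← MonoidHom.range_eq_map, Subgroup.range_subtype] at h'
        rw [← MonoidHom.range_eq_map, MonoidHom.range_comp, MonoidHom.range_eq_top.2 a.surjective,
          ← MonoidHom.range_eq_map, Subgroup.range_subtype, ← h'] at h
        rw [← h'] at hx ⊢
        obtain ⟨y, hy, he⟩ := hx
        obtain rfl : y = x := Subtype.ext he
        exact h.le ⟨y, hy, rfl⟩
  have hs : Setting G 2 T M := ⟨hchar, honly, hn, hss⟩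
  haveI hVn := Setting.omega_normal (G := G) (p := 2)
  let V := Cfsg.omegaOneCenter 2 (Cfsg.pCore 2 G)
  haveI : V.Normal := hVn
  haveI : IsMulCommutative ↥V := Setting.omega_ea.1
  haveI : (Subgroup.centralizer (V : Set G)).Normal := inferInstance
  letI := quotConj V
  obtain ⟨q, r, S, N, E, hS, hN, hc, hF, -, n, hn', hnat⟩ := hs.exists_model (quotMdl V)
  exact exists_invariant (m := quotMdl V) ⟨hs, hS.trans (map_toH _ _), hN.trans (map_toH _ _),
    Cfg.of_frame hc hF hn' hnat⟩ A hA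

end CfsgLib.PushUp.OddAut
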